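import Mathlib.FieldTheory.IsAlgClosed.Basic
import Mathlib.RingTheory.Artinian.Ring
import Mathlib.RingTheory.TensorProduct.Maps
import Mathlib.LinearAlgebra.TensorProduct.Tower
import Mathlib.Algebra.Polynomial.AlgebraMap
import Mathlib.LinearAlgebra.FiniteDimensional.Lemmas
import Mathlib.RingTheory.Ideal.Quotient.Operations

/-!
# Lines of ideals of given colength in a finite local algebra
-/

set_option autoImplicit false

universe u

open TensorProduct Polynomial

namespace Groth.Agent.H54.Punctual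

section General

variable {K : Type u} [Field K] {C : Type u} [CommRing C] [Algebra K C] {π : C → K}
  (hπ : ∀ c, IsNilpotent (c - algebraMap K C (π c)))

include hπ

/-- An element of a minimal extension spans it and is killed by the maximal ideal. -/
theorem socle {I₁ L : Ideal C} (hlt : I₁ < L) (hmin : ∀ M : Ideal C, I₁ ≤ M → M ≤ L → M = I₁ ∨ M = L)
    {y : C} (hy : y ∈ L) (hy₁ : y ∉ I₁) :
    I₁ ⊔ Ideal.span {y} = L ∧ ∀ c, (c - algebraMap K C (π c)) * y ∈ I₁ := by
  have hle : ∀ z ∈ L, I₁ ⊔ Ideal.span {z} ≤ L := fun z hz =>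
    sup_le hlt.le ((Ideal.span_singleton_le_iff_mem _).2 hz)
  have hz : ∀ z, I₁ ⊔ Ideal.span {z} = I₁ → z ∈ I₁ := fun z h =>
    h ▸ Ideal.mem_sup_right (Ideal.mem_span_singleton_self z)
  refine ⟨(hmin _ le_sup_left (hle y hy)).resolve_left fun h => hy₁ (hz _ h), fun c => ?_⟩
  rcases hmin _ le_sup_left (hle _ (L.mul_mem_left (c - algebraMap K C (π c)) hy)) with h | h
  · exact hz _ h
  · obtain ⟨i, hi, e, he, hie⟩ := Submodule.mem_sup.1 (h.symm ▸ hy : y ∈ I₁ ⊔ _)
    obtain ⟨d, rfl⟩ := Ideal.mem_span_singleton'.1 he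
    have hu : IsUnit (1 - d * (c - algebraMap K C (π c))) :=
      ((Commute.all _ _).isNilpotent_mul_left (hπ c)).isUnit_one_sub
    exact absurd ((Ideal.unit_mul_mem_iff_mem I₁ hu).1
      (show (1 - d * (c - algebraMap K C (π c))) * y ∈ I₁ by
        convert hi using 1
        linear_combination hie.symm)) hy₁

variable [Module.Finite K C]

/-- Two ideals of the same colength are related through a common socle extension. -/
theorem exists_socle_pair {I J : Ideal C} (hd : Module.finrank K (C ⧸ I) = Module.finrank K (C ⧸ J)) (hne : I ≠ J) :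
    ∃ (I₁ : Ideal C) (x y : C), I ⊓ J ≤ I₁ ∧ x ∈ J ∧ x ∉ I ∧ y ∉ I₁ ∧ I₁ ⊔ Ideal.span {y} = I ∧
      (∀ c, (c - algebraMap K C (π c)) * x ∈ I₁) ∧ ∀ c, (c - algebraMap K C (π c)) * y ∈ I₁ := by
  haveI : IsNoetherianRing C := .of_finite K C
  haveI : IsArtinianRing C := .of_finite K C
  have hle : ∀ A B : Ideal C, A ≤ B → Module.finrank K (C ⧸ A) = Module.finrank K (C ⧸ B) → A = B := by
    intro A B h e
    have h1 := Submodule.finrank_quotient_add_finrank (A.restrictScalars K)
    have h2 := Submodule.finrank_quotient_add_finrank (B.restrictScalars K)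
    have e1 : Module.finrank K (C ⧸ A.restrictScalars K) = Module.finrank K (C ⧸ A) :=
      (Submodule.Quotient.restrictScalarsEquiv K A).finrank_eq
    have e2 : Module.finrank K (C ⧸ B.restrictScalars K) = Module.finrank K (C ⧸ B) :=
      (Submodule.Quotient.restrictScalarsEquiv K B).finrank_eq
    exact Submodule.restrictScalars_injective K C C
      (Submodule.eq_of_le_of_finrank_eq (show A.restrictScalars K ≤ B.restrictScalars K from h) (by omega))
  obtain ⟨I₁, ⟨h1, h2⟩, hmax⟩ := set_has_maximal_iff_noetherian.2 (inferInstance : IsNoetherian C C)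
    {M : Ideal C | I ⊓ J ≤ M ∧ M < I} ⟨I ⊓ J, le_rfl, lt_of_le_of_ne inf_le_left fun h =>
      hne (hle I J (inf_eq_left.1 h) hd)⟩
  obtain ⟨y, hy, hy₁⟩ := SetLike.exists_of_lt h2
  obtain ⟨hyI, hys⟩ := socle hπ h2 (fun M hM hM' => by
    rcases eq_or_lt_of_le hM with h | h
    · exact Or.inl h.symm
    · exact Or.inr (by_contra fun hMI => hmax M ⟨h1.trans hM, lt_of_le_of_ne hM' hMI⟩ h)) hy hy₁
  have h3 : I₁ < I₁ ⊔ J := lt_of_le_of_ne le_sup_left fun h =>
    hne (hle J I ((sup_eq_left.1 h.symm).trans h2.le) hd.symm).symm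
  obtain ⟨L, ⟨hL1, hL2⟩, hminL⟩ := IsArtinian.set_has_minimal {M : Ideal C | I₁ < M ∧ M ≤ I₁ ⊔ J} ⟨_, h3, le_rfl⟩
  obtain ⟨z, hz, hz₁⟩ := SetLike.exists_of_lt hL1
  obtain ⟨i, hi, x, hx, rfl⟩ := Submodule.mem_sup.1 (hL2 hz)
  have hx₁ : x ∉ I₁ := fun h => hz₁ (I₁.add_mem hi h)
  have hxs := (socle hπ hL1 (fun M hM hM' => by
    rcases eq_or_lt_of_le hM with h | h
    · exact Or.inl h.symm
    · exact Or.inr (eq_of_le_of_not_lt hM' (hminL M ⟨h, hM'.trans hL2⟩)))
    (by simpa using L.sub_mem hz (hL1.le hi) : x ∈ L) hx₁).2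
  exact ⟨I₁, x, y, h1, hx, fun h => hx₁ (h1 ⟨h, hx⟩), hy₁, hyI, hxs, hys⟩

/-- Adding a socle element lowers the colength by one. -/
theorem finrank_sup_span {I₁ : Ideal C} {y : C} (hy : y ∉ I₁)
    (hys : ∀ c, (c - algebraMap K C (π c)) * y ∈ I₁) :
    Module.finrank K (C ⧸ (I₁ ⊔ Ideal.span {y})) + 1 = Module.finrank K (C ⧸ I₁) := by
  let g : (C ⧸ I₁) →ₗ[K] C ⧸ (I₁ ⊔ Ideal.span {y}) := (Ideal.Quotient.factorₐ K (le_sup_left)).toLinearMap
  have hg : Function.Surjective g := fun b => by
    obtain ⟨c, rfl⟩ := Ideal.Quotient.mk_surjective b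
    exact ⟨Ideal.Quotient.mk I₁ c, rfl⟩
  have hk : LinearMap.ker g = Submodule.span K {Ideal.Quotient.mk I₁ y} := by
    refine le_antisymm (fun q hq => ?_) ?_
    · obtain ⟨c, rfl⟩ := Ideal.Quotient.mk_surjective q
      obtain ⟨i, hi, e, he, hie⟩ := Submodule.mem_sup.1 (Ideal.Quotient.eq_zero_iff_mem.1 hq)
      obtain ⟨d, rfl⟩ := Ideal.mem_span_singleton'.1 he
      refine Submodule.mem_span_singleton.2 ⟨π d, ?_⟩
      rw [Algebra.smul_def, ← Ideal.Quotient.mk_algebraMap, ← map_mul, Ideal.Quotient.mk_eq_mk_iff_sub_mem, ← hie]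
      have := I₁.add_mem hi (hys d)
      convert I₁.neg_mem this using 1
      ring
    · rw [Submodule.span_le, Set.singleton_subset_iff]
      exact Ideal.Quotient.eq_zero_iff_mem.2 (Ideal.mem_sup_right (Ideal.mem_span_singleton_self y))
  have h := g.finrank_range_add_finrank_ker
  rw [hk, LinearMap.range_eq_top.2 hg, finrank_top,
    finrank_span_singleton (fun h => hy (Ideal.Quotient.eq_zero_iff_mem.1 h))] at h
  exact h

end General

section Family

variable (k : Type u) [Field k] (R : Type u) [CommRing R] [Algebra k R]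
  {K : Type u} [Field K] [Algebra k K] {π : K ⊗[k] R → K}

/-- Evaluation of the parameter. -/
noncomputable def evalAt (c : K) : K[X] ⊗[k] R →ₐ[k] K ⊗[k] R :=
  Algebra.TensorProduct.map ((aeval c).restrictScalars k) (AlgHom.id k R)

/-- Constant families. -/
noncomputable def constFam : K ⊗[k] R →ₐ[k] K[X] ⊗[k] R :=
  Algebra.TensorProduct.map (IsScalarTower.toAlgHom k K K[X]) (AlgHom.id k R)

theorem evalAt_constFam (c : K) (d : K ⊗[k] R) : evalAt k R c (constFam k R d) = d := by
  induction d with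
  | zero => simp
  | tmul a r => simp [evalAt, constFam]
  | add a b ha hb => simp only [map_add, ha, hb]

theorem evalAt_smul (c : K) (a : K[X]) (z : K[X] ⊗[k] R) :
    evalAt k R c (a • z) = aeval c a • evalAt k R c z := by
  induction z with
  | zero => simp
  | tmul b r => simp [evalAt, smul_tmul']
  | add p q hp hq => simp only [smul_add, map_add, hp, hq]

theorem constFam_smul (a : K) (d : K ⊗[k] R) : constFam k R (a • d) = Polynomial.C a • constFam k R d := by
  induction d with
  | zero => simp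
  | tmul b r => simp [constFam, smul_tmul']
  | add p q hp hq => simp only [smul_add, map_add, hp, hq]

/-- The line of ideals `I₁ + (y + t x)`. -/
theorem exists_family [Module.Finite k R] (hπ : ∀ c, IsNilpotent (c - algebraMap K (K ⊗[k] R) (π c)))
    (I₁ : Ideal (K ⊗[k] R)) (x y : K ⊗[k] R) (hx : x ∉ I₁ ⊔ Ideal.span {y}) (hy : y ∉ I₁)
    (hxs : ∀ c, (c - algebraMap K (K ⊗[k] R) (π c)) * x ∈ I₁)
    (hys : ∀ c, (c - algebraMap K (K ⊗[k] R) (π c)) * y ∈ I₁) :
    ∃ L : Ideal (K[X] ⊗[k] R), Module.Free K[X] ((K[X] ⊗[k] R) ⧸ L) ∧ Module.Finite K[X] ((K[X] ⊗[k] R) ⧸ L) ∧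
      Module.finrank K[X] ((K[X] ⊗[k] R) ⧸ L) + 1 = Module.finrank K ((K ⊗[k] R) ⧸ I₁) ∧
      ∀ c : K, L.map (evalAt k R c).toRingHom = I₁ ⊔ Ideal.span {y + c • x} := by
  classical
  let mk := Ideal.Quotient.mkₐ K I₁
  have hind : LinearIndepOn K id ({mk y, mk x} : Set ((K ⊗[k] R) ⧸ I₁)) := by
    refine ((LinearIndependent.pair_iff (x := mk y) (y := mk x)).2 fun s t hst => ?_).linearIndepOn_id' (by simp [Set.pair_comm])
    have h0 : s • y + t • x ∈ I₁ := Ideal.Quotient.eq_zero_iff_mem.1 (by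
      show mk (s • y + t • x) = 0
      rwa [map_add, map_smul, map_smul])
    by_cases ht : t = 0
    · subst ht
      refine ⟨?_, rfl⟩
      by_contra hs
      refine hy ?_
      simpa [smul_smul, hs] using Submodule.smul_of_tower_mem I₁ s⁻¹ (by simpa using h0 : s • y ∈ I₁)
    · refine absurd ?_ hx
      have h1 : t • x ∈ I₁ ⊔ Ideal.span {y} := by
        have := Submodule.sub_mem _ (Ideal.mem_sup_left (T := Ideal.span {y}) h0)
          (Submodule.smul_of_tower_mem _ s (Ideal.mem_sup_right (S := I₁) (Ideal.mem_span_singleton_self y)))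
        simpa using this
      simpa [smul_smul, ht] using Submodule.smul_of_tower_mem _ t⁻¹ h1
  let bQ := Module.Basis.extend hind
  let ιQ := ↥(hind.extend (Set.subset_univ _))
  letI : Fintype ιQ := Fintype.ofFinite ιQ
  let i0 : ιQ := ⟨mk y, Set.mem_of_subset_of_mem (hind.subset_extend _) (by simp)⟩
  let i1 : ιQ := ⟨mk x, Set.mem_of_subset_of_mem (hind.subset_extend _) (by simp)⟩
  have hb : ∀ i : ιQ, bQ i = (i : (K ⊗[k] R) ⧸ I₁) := fun i => Module.Basis.extend_apply_self hind i
  have h01 : i0 ≠ i1 := fun h => hx (by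
    have h' : mk y = mk x := congrArg Subtype.val h
    have h'' := (Ideal.Quotient.mk_eq_mk_iff_sub_mem _ _).1 h'
    simpa using Submodule.sub_mem _ (Ideal.mem_sup_right (S := I₁) (Ideal.mem_span_singleton_self y))
      (Ideal.mem_sup_left (T := Ideal.span {y}) h''))
  let bl : ιQ → K ⊗[k] R := fun i =>
    if i = i0 then y else if i = i1 then x else (Ideal.Quotient.mkₐ_surjective K I₁ (bQ i)).choose
  have hbl : ∀ i, mk (bl i) = bQ i := fun i => by
    by_cases h0 : i = i0
    · simp [bl, h0, hb, i0]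
    · by_cases h1 : i = i1
      · simp [bl, h1, h01.symm, hb, i1]
      · simp only [bl, h0, h1, if_false]
        exact (Ideal.Quotient.mkₐ_surjective K I₁ (bQ i)).choose_spec
  let φ : ιQ → (K ⊗[k] R) →ₗ[K] K := fun i => (bQ.coord i).comp mk.toLinearMap
  let φA : ιQ → (K[X] ⊗[k] R) →ₗ[K[X]] K[X] := fun i =>
    LinearMap.liftBaseChange K[X] ((((Algebra.linearMap K K[X]).comp (φ i)).restrictScalars k).comp
      (Algebra.TensorProduct.includeRight (R := k) (A := K) (B := R)).toLinearMap)
  have hφA : ∀ i d, φA i (constFam k R d) = Polynomial.C (φ i d) := by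
    intro i d
    induction d with
    | zero => simp
    | tmul a r =>
      have : φ i (a ⊗ₜ[k] r) = a * φ i (1 ⊗ₜ[k] r) := by
        rw [← smul_eq_mul, ← map_smul, smul_tmul', smul_eq_mul, mul_one]
      simp [φA, constFam, this]
    | add p q hp hq => simp only [map_add, hp, hq]
  have hφ0 : ∀ i d, d ∈ I₁ → φ i d = 0 := fun i d hd => by
    simp only [φ, LinearMap.comp_apply, AlgHom.toLinearMap_apply]
    rw [show mk d = 0 from Ideal.Quotient.eq_zero_iff_mem.2 hd, map_zero]
  have hφb : ∀ i j, φ i (bl j) = if j = i then 1 else 0 := fun i j => by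
    simp [φ, hbl, Finsupp.single_apply]
  let J := Ideal.span (constFam k R '' (I₁ : Set (K ⊗[k] R)))
  have hcong : ∀ z, z - ∑ i, φA i z • constFam k R (bl i) ∈ J := by
    intro z
    induction z with
    | zero => simp
    | tmul a r =>
      have e1 : a ⊗ₜ[k] r = a • constFam k R ((1 : K) ⊗ₜ[k] r) := by simp [constFam, smul_tmul']
      have e2 : a ⊗ₜ[k] r - ∑ i, φA i (a ⊗ₜ[k] r) • constFam k R (bl i) =
          a • constFam k R ((1 : K) ⊗ₜ[k] r - ∑ i, φ i ((1 : K) ⊗ₜ[k] r) • bl i) := by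
        simp only [map_sub, map_sum, constFam_smul, smul_sub, Finset.smul_sum, smul_smul, e1, map_smul,
          hφA, smul_eq_mul]
      rw [e2]
      refine Submodule.smul_of_tower_mem J a (Ideal.subset_span ⟨_, ?_, rfl⟩)
      refine Ideal.Quotient.eq_zero_iff_mem.1 (?_ : mk _ = 0)
      simp only [map_sub, map_sum, map_smul, hbl]
      exact sub_eq_zero.2 (bQ.sum_repr _).symm
    | add p q hp hq =>
      simpa [add_smul, Finset.sum_add_distrib, add_sub_add_comm] using J.add_mem hp hq
  let w := constFam k R y + (X : K[X]) • constFam k R x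
  let L := Ideal.span (insert w (constFam k R '' (I₁ : Set (K ⊗[k] R))))
  let Φ : (K[X] ⊗[k] R) →ₗ[K[X]] ({i : ιQ // i ≠ i0} → K[X]) := LinearMap.pi fun j =>
    φA j.1 - (if j.1 = i1 then (X : K[X]) else 0) • φA i0
  have hΦc : ∀ d j, Φ (constFam k R d) j =
      Polynomial.C (φ j.1 d) - (if j.1 = i1 then (X : K[X]) else 0) * Polynomial.C (φ i0 d) := fun d j => by
    simp only [Φ, LinearMap.pi_apply, LinearMap.sub_apply, LinearMap.smul_apply, smul_eq_mul, hφA]
  have hsoc : ∀ (v : K ⊗[k] R) (i : ιQ), mk v = bQ i → (∀ c, (c - algebraMap K (K ⊗[k] R) (π c)) * v ∈ I₁) →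
      ∀ c j, φ j (c * v) = if i = j then π c else 0 := by
    intro v i hv hvs c j
    have : c * v = (c - algebraMap K (K ⊗[k] R) (π c)) * v + π c • v := by rw [Algebra.smul_def]; ring
    rw [this, map_add, hφ0 j _ (hvs c), zero_add, map_smul]
    simp [φ, hv, Finsupp.single_apply]
  have hgen : ∀ g ∈ insert w (constFam k R '' (I₁ : Set (K ⊗[k] R))), ∀ c, Φ (c * g) = 0 := by
    intro g hg c
    induction c with
    | zero => simp
    | add p q hp hq => rw [add_mul, map_add, hp, hq, add_zero]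
    | tmul a r =>
      rw [show a ⊗ₜ[k] r * g = a • (constFam k R ((1 : K) ⊗ₜ[k] r) * g) by
        rw [← smul_mul_assoc]; simp [constFam, smul_tmul'], map_smul]
      rcases Set.mem_insert_iff.1 hg with rfl | ⟨i, hi, rfl⟩
      · refine smul_eq_zero_of_right _ (funext fun j => ?_)
        simp only [w, mul_add, mul_smul_comm, ← map_mul, map_add, map_smul, Pi.add_apply, Pi.smul_apply,
          Pi.zero_apply, hΦc, smul_eq_mul,
          hsoc y i0 (by rw [hb]) hys, hsoc x i1 (by rw [hb]) hxs]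
        rcases eq_or_ne j.1 i1 with h | h
        · simp [h, h01, h01.symm]
        · simp [h, h.symm, j.2.symm, h01, h01.symm]
      · refine smul_eq_zero_of_right _ (funext fun j => ?_)
        rw [← map_mul, hΦc, hφ0 _ _ (I₁.mul_mem_left _ hi), hφ0 _ _ (I₁.mul_mem_left _ hi)]
        simp
  have hker : LinearMap.ker Φ = L.restrictScalars K[X] := by
    refine le_antisymm (fun z hz => ?_) (fun z hz => ?_)
    · have hz' : ∀ j : {i // i ≠ i0}, φA j.1 z = (if j.1 = i1 then (X : K[X]) else 0) * φA i0 z := fun j => by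
        have := congrFun (LinearMap.mem_ker.1 hz) j
        by_cases h : j.1 = i1 <;> simpa [Φ, h, sub_eq_zero] using this
      have hsum : ∑ i, φA i z • constFam k R (bl i) = φA i0 z • w := by
        rw [Finset.sum_eq_add i0 i1 h01 (fun i _ hi => by rw [hz' ⟨i, hi.1⟩, if_neg hi.2, zero_mul, zero_smul])
          (by simp) (by simp), hz' ⟨i1, h01.symm⟩, if_pos rfl]
        simp [bl, h01.symm, w, smul_add, smul_smul, mul_comm]
      have h := Ideal.span_mono (Set.subset_insert w _) (hcong z)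
      rw [hsum] at h
      show z ∈ L
      simpa using L.add_mem h (Submodule.smul_of_tower_mem L (φA i0 z) (Ideal.subset_span (Set.mem_insert w _)))
    · have hz' : z ∈ L := hz
      have : ∀ c, Φ (c * z) = 0 := by
        exact Submodule.span_induction (p := fun z _ => ∀ c, Φ (c * z) = 0) (fun g hg => hgen g hg)
          (fun c => by rw [mul_zero, map_zero]) (fun p q _ _ hp hq c => by rw [mul_add, map_add, hp, hq, add_zero])
          (fun a p _ hp c => by rw [smul_eq_mul, ← mul_assoc]; exact hp (c * a)) hz'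
      simpa using this 1
  have hsurj : Function.Surjective Φ := fun v => by
    refine ⟨∑ j, v j • constFam k R (bl j.1), funext fun l => ?_⟩
    simp only [map_sum, map_smul, Finset.sum_apply, Pi.smul_apply, hΦc, hφb]
    rw [Finset.sum_eq_single l (fun j _ hj => by simp [j.2, Subtype.coe_ne_coe.2 hj]) (by simp)]
    simp [l.2]
  let e : ((K[X] ⊗[k] R) ⧸ L) ≃ₗ[K[X]] ({i : ιQ // i ≠ i0} → K[X]) :=
    (Submodule.Quotient.restrictScalarsEquiv K[X] L).symm ≪≫ₗ (Submodule.quotEquivOfEq _ _ hker.symm) ≪≫ₗ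
      Φ.quotKerEquivOfSurjective hsurj
  refine ⟨L, Module.Free.of_equiv e.symm, Module.Finite.equiv e.symm, ?_, fun c => ?_⟩
  · rw [e.finrank_eq, Module.finrank_pi, Fintype.card_subtype_compl, Fintype.card_subtype_eq,
      Module.finrank_eq_card_basis bQ]
    have : 0 < Fintype.card ιQ := Fintype.card_pos_iff.2 ⟨i0⟩
    exact Nat.sub_add_cancel this
  · show (Ideal.span _).map (evalAt k R c).toRingHom = _
    rw [Ideal.map_span, Set.image_insert_eq, ← Set.image_comp, Ideal.span_insert, sup_comm]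
    congr 1
    · rw [show ((evalAt k R c).toRingHom ∘ constFam k R) = id from funext (evalAt_constFam k R c), Set.image_id,
        Ideal.span_eq]
    · simp [w, evalAt_smul, evalAt_constFam]

end Family

end Groth.Agent.H54.Punctual
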