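import Groth.Agent.H54.Punctual.Sch
import Groth.Agent.H54.Punctual.Ring
import Mathlib.RingTheory.Nilpotent.Lemmas

/-!
# Connectedness of the punctual Hilbert scheme of a finite local algebra
-/

set_option autoImplicit false
set_option backward.isDefEq.respectTransparency false

universe u

open CategoryTheory CategoryTheory.Limits AlgebraicGeometry TensorProduct Polynomial
open Groth.Agent.Lib.HilbD.Basic

namespace Groth.Agent.H54.Punctual

theorem exists_proj (k : Type u) [Field k] [IsAlgClosed k] (R : Type u) [CommRing R] [Algebra k R]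
    [IsLocalRing R] [Module.Finite k R] (K : Type u) [Field K] [Algebra k K] :
    ∃ π : K ⊗[k] R → K, ∀ c, IsNilpotent (c - algebraMap K (K ⊗[k] R) (π c)) := by
  haveI : IsArtinianRing R := .of_finite k R
  let κ := R ⧸ IsLocalRing.maximalIdeal R
  letI : Field κ := Ideal.Quotient.field _
  haveI : Module.Finite k κ := Module.Finite.of_surjective (Ideal.Quotient.mkₐ k _).toLinearMap
    (Ideal.Quotient.mkₐ_surjective k _)
  let ρ : R →ₐ[k] k := (AlgEquiv.ofBijective (Algebra.ofId k κ)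
    (IsAlgClosed.algebraMap_bijective_of_isIntegral (k := k) (K := κ))).symm.toAlgHom.comp (Ideal.Quotient.mkₐ k _)
  have hρ : ∀ r, IsNilpotent (r - algebraMap k R (ρ r)) := fun r => by
    rw [← mem_nilradical, nilradical_eq_sInf]
    refine Ideal.mem_sInf.2 fun P (hP : P.IsPrime) => ?_
    rw [IsLocalRing.eq_maximalIdeal (IsArtinianRing.isMaximal_of_isPrime P)]
    refine Ideal.Quotient.eq_zero_iff_mem.1 ?_
    rw [map_sub, sub_eq_zero]
    exact ((AlgEquiv.ofBijective (Algebra.ofId k κ)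
      (IsAlgClosed.algebraMap_bijective_of_isIntegral (k := k) (K := κ))).apply_symm_apply
        (Ideal.Quotient.mk _ r)).symm
  let π : K ⊗[k] R →ₐ[K] K := Algebra.TensorProduct.lift (AlgHom.id K K) ((Algebra.ofId k K).comp ρ)
    fun _ _ => Commute.all _ _
  refine ⟨π, fun c => ?_⟩
  rw [← mem_nilradical]
  induction c with
  | zero => simp
  | tmul a r =>
    have : a ⊗ₜ[k] r - algebraMap K (K ⊗[k] R) (π (a ⊗ₜ[k] r)) =
        (a ⊗ₜ[k] (1 : R)) * Algebra.TensorProduct.includeRight (A := K) (r - algebraMap k R (ρ r)) := by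
      simp only [π, map_sub, AlgHom.commutes, mul_sub, Algebra.TensorProduct.includeRight_apply,
        Algebra.TensorProduct.tmul_mul_tmul, mul_one, one_mul, Algebra.TensorProduct.lift_tmul, AlgHom.id_apply,
        AlgHom.comp_apply, Algebra.ofId_apply, Algebra.TensorProduct.algebraMap_apply, Algebra.algebraMap_self_apply]
    rw [this]
    exact Ideal.mul_mem_left _ _ ((hρ r).map Algebra.TensorProduct.includeRight)
  | add p q hp hq => simpa [map_add, add_sub_add_comm] using Ideal.add_mem _ hp hq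

variable {k : Type u} [Field k] {R : Type u} [CommRing R] [Algebra k R] {n : ℕ}
  {H : Over (Spec (CommRingCat.of k))} {Z : HilbD.Obj (fR k R) n H}

/-- Points classifying two members of a line are in the same component. -/
theorem mem_component_of_family (hH : HilbD.IsUniversal (fR k R) n H Z) {K : Type u} [Field K] [Algebra k K]
    (L : Ideal (K[X] ⊗[k] R)) [Module.Free K[X] ((K[X] ⊗[k] R) ⧸ L)] [Module.Finite K[X] ((K[X] ⊗[k] R) ⧸ L)]
    (hn : Module.finrank K[X] ((K[X] ⊗[k] R) ⧸ L) = n) (a b : K) {ga gb : pt k K ⟶ H}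
    (ha : HilbD.pull (fR k R) ga Z.1 = sh k R (L.map (evalAt k R a).toRingHom))
    (hb : HilbD.pull (fR k R) gb Z.1 = sh k R (L.map (evalAt k R b).toRingHom)) (x : ↥(Spec (CommRingCat.of K))) :
    ga.left x ∈ connectedComponent (gb.left x) := by
  obtain ⟨g, hg, -⟩ := hH (pt k K[X]) ⟨sh k R L, deg_sh k R (deg_of_free hn)⟩
  have h : ∀ (c : K) (gc : pt k K ⟶ H), HilbD.pull (fR k R) gc Z.1 = sh k R (L.map (evalAt k R c).toRingHom) →
      gc.left x ∈ Set.range g.left := fun c gc hc => by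
    have e : gc = ptMap k ((aeval c).restrictScalars k : K[X] →ₐ[k] K) ≫ g := by
      refine hom_ext (fR k R) hH ?_
      rw [hc, pull_comp, hg, pull_sh]
      rfl
    subst e
    exact ⟨_, rfl⟩
  haveI : PreconnectedSpace ↥((pt k K[X]).left) := inferInstanceAs (PreconnectedSpace (PrimeSpectrum K[X]))
  exact ((isPreconnected_range g.left.continuous).subset_connectedComponent (h b gb hb)) (h a ga ha)

variable [Module.Finite k R]

theorem mem_component (hH : HilbD.IsUniversal (fR k R) n H Z) {K : Type u} [Field K] [Algebra k K]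
    {π : K ⊗[k] R → K} (hπ : ∀ c, IsNilpotent (c - algebraMap K (K ⊗[k] R) (π c)))
    (x : ↥(Spec (CommRingCat.of K))) : ∀ (m : ℕ) (I J : Ideal (K ⊗[k] R)),
      Module.finrank K ((K ⊗[k] R) ⧸ (I ⊓ J)) = m → Module.finrank K ((K ⊗[k] R) ⧸ I) = n →
      Module.finrank K ((K ⊗[k] R) ⧸ J) = n → ∀ {gI gJ : pt k K ⟶ H},
        HilbD.pull (fR k R) gI Z.1 = sh k R I → HilbD.pull (fR k R) gJ Z.1 = sh k R J →
          gI.left x ∈ connectedComponent (gJ.left x) := by
  intro m
  induction m using Nat.strong_induction_on with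
  | _ m ih =>
    intro I J hm hI hJ gI gJ hgI hgJ
    rcases eq_or_ne I J with rfl | hne
    · rw [hom_ext (fR k R) hH (hgI.trans hgJ.symm)]
      exact mem_connectedComponent
    obtain ⟨I₁, p, q, hle, hpJ, hpI, hq, hqI, hps, hqs⟩ := exists_socle_pair hπ (hI.trans hJ.symm) hne
    have hI₁ : I₁ ≤ I := hqI ▸ le_sup_left
    have hp : p ∉ I₁ := fun h => hpI (hI₁ h)
    have hrank : Module.finrank K ((K ⊗[k] R) ⧸ I₁) = n + 1 := by rw [← hI, ← hqI, finrank_sup_span hπ hq hqs]
    have hK' : Module.finrank K ((K ⊗[k] R) ⧸ (I₁ ⊔ Ideal.span {p})) = n := by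
      have := finrank_sup_span hπ hp hps
      omega
    have hqK : q ∉ I₁ ⊔ Ideal.span {p} := fun h => by
      obtain ⟨i, hi, e, he, hie⟩ := Submodule.mem_sup.1 h
      obtain ⟨d, rfl⟩ := Ideal.mem_span_singleton'.1 he
      have h1 : π d • p ∈ I := by
        have := I.sub_mem (I.sub_mem (show q ∈ I from hqI ▸ Ideal.mem_sup_right (Ideal.mem_span_singleton_self q))
          (hI₁ hi)) (hI₁ (hps d))
        rw [Algebra.smul_def]
        convert this using 1
        linear_combination hie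
      by_cases hd : π d = 0
      · refine hq ?_
        have := I₁.add_mem hi (hps d)
        simpa [hd, hie] using this
      · exact hpI (by simpa [smul_smul, hd] using Submodule.smul_of_tower_mem I (π d)⁻¹ h1)
    obtain ⟨L, hL1, hL2, hL3, hL4⟩ := exists_family k R hπ I₁ p q (by rwa [hqI]) hq hps hqs
    obtain ⟨L', hM1, hM2, hM3, hM4⟩ := exists_family k R hπ I₁ q p hqK hp hqs hps
    have hLn : Module.finrank K[X] ((K[X] ⊗[k] R) ⧸ L) = n := by omega
    have hMn : Module.finrank K[X] ((K[X] ⊗[k] R) ⧸ L') = n := by omega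
    have hpair : ∀ (L : Ideal (K[X] ⊗[k] R)) [Module.Free K[X] ((K[X] ⊗[k] R) ⧸ L)]
        [Module.Finite K[X] ((K[X] ⊗[k] R) ⧸ L)], Module.finrank K[X] ((K[X] ⊗[k] R) ⧸ L) = n → ∀ c : K,
        ∃ g : pt k K ⟶ H, HilbD.pull (fR k R) g Z.1 = sh k R (L.map (evalAt k R c).toRingHom) := fun L _ _ h c => by
      obtain ⟨g, hg, -⟩ := hH (pt k K[X]) ⟨sh k R L, deg_sh k R (deg_of_free h)⟩
      exact ⟨ptMap k ((aeval c).restrictScalars k : K[X] →ₐ[k] K) ≫ g, by rw [pull_comp, hg, pull_sh]; rfl⟩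
    obtain ⟨gM, hgM⟩ := hpair L hLn 1
    obtain ⟨gK, hgK⟩ := hpair L' hMn 0
    have hgM' : HilbD.pull (fR k R) gM Z.1 = sh k R (L'.map (evalAt k R (1 : K)).toRingHom) := by
      rw [hgM, hL4 1, hM4 1, one_smul, one_smul, add_comm]
    have hgI' : HilbD.pull (fR k R) gI Z.1 = sh k R (L.map (evalAt k R (0 : K)).toRingHom) := by
      rw [hgI, hL4 0, zero_smul, add_zero, hqI]
    have hgK' : HilbD.pull (fR k R) gK Z.1 = sh k R (I₁ ⊔ Ideal.span {p}) := by
      rw [hgK, hM4 0, zero_smul, add_zero]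
    have c1 := mem_component_of_family hH L hLn 0 1 hgI' hgM x
    have c2 := mem_component_of_family hH L' hMn 1 0 hgM' hgK x
    have hlt : Module.finrank K ((K ⊗[k] R) ⧸ ((I₁ ⊔ Ideal.span {p}) ⊓ J)) < m := by
      have hlt' : I ⊓ J < (I₁ ⊔ Ideal.span {p}) ⊓ J := lt_of_le_of_ne
        (le_inf (hle.trans le_sup_left) inf_le_right) fun h => hpI (h.ge
          ⟨Ideal.mem_sup_right (Ideal.mem_span_singleton_self p), hpJ⟩).1
      have h1 := Submodule.finrank_quotient_add_finrank ((I ⊓ J).restrictScalars K)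
      have h2 := Submodule.finrank_quotient_add_finrank (((I₁ ⊔ Ideal.span {p}) ⊓ J).restrictScalars K)
      have h3 := Submodule.finrank_lt_finrank_of_lt (K := K) (s := (I ⊓ J).restrictScalars K)
        (t := ((I₁ ⊔ Ideal.span {p}) ⊓ J).restrictScalars K) hlt'
      have e1 : Module.finrank K ((K ⊗[k] R) ⧸ (I ⊓ J).restrictScalars K) = m :=
        ((Submodule.Quotient.restrictScalarsEquiv K (I ⊓ J)).finrank_eq).trans hm
      have e2 := (Submodule.Quotient.restrictScalarsEquiv K ((I₁ ⊔ Ideal.span {p}) ⊓ J)).finrank_eq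
      omega
    have c3 := ih _ hlt _ J rfl hK' hJ hgK' hgJ
    rw [← connectedComponent_eq_iff_mem] at c1 c2 c3 ⊢
    exact c1.trans (c2.trans c3)

omit [Module.Finite k R] in
theorem exists_common (K₁ K₂ : Type u) [Field K₁] [Algebra k K₁] [Field K₂] [Algebra k K₂] :
    ∃ (K : Type u) (_ : Field K) (_ : Algebra k K), Nonempty (K₁ →ₐ[k] K) ∧ Nonempty (K₂ →ₐ[k] K) := by
  obtain ⟨M, hM⟩ := Ideal.exists_maximal (K₁ ⊗[k] K₂)
  exact ⟨(K₁ ⊗[k] K₂) ⧸ M, Ideal.Quotient.field M, inferInstance,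
    ⟨(Ideal.Quotient.mkₐ k M).comp Algebra.TensorProduct.includeLeft⟩,
    ⟨(Ideal.Quotient.mkₐ k M).comp Algebra.TensorProduct.includeRight⟩⟩

omit [Module.Finite k R] in
theorem exists_classified {K : Type u} [Field K] [Algebra k K] (Z : HilbD.Obj (fR k R) n H) (g : pt k K ⟶ H) :
    ∃ I : Ideal (K ⊗[k] R), Module.finrank K ((K ⊗[k] R) ⧸ I) = n ∧ HilbD.pull (fR k R) g Z.1 = sh k R I := by
  obtain ⟨I, hI⟩ := exists_sh_eq k R (HilbD.pull (fR k R) g Z.1)
  have h0 : Mor2.IsFinLocFreeOfDeg n ((HilbD.pull (fR k R) g Z.1).subschemeι ≫ PicF.XTproj (fR k R) (pt k K)) :=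
    (pullObj (fR k R) g Z).2
  rw [← hI] at h0
  exact ⟨I, (finrank_of_deg (deg_of_sh k R h0)).2, hI.symm⟩

omit [Module.Finite k R] in
theorem exists_point {K : Type u} [Field K] [Algebra k K] (h : H.left)
    (ψ : H.left.residueField h ⟶ CommRingCat.of K)
    (hψ : Spec.preimage (H.left.fromSpecResidueField h ≫ H.hom) ≫ ψ = CommRingCat.ofHom (algebraMap k K)) :
    ∃ g : pt k K ⟶ H, ∀ x, g.left x = h :=
  ⟨Over.homMk (Spec.map ψ ≫ H.left.fromSpecResidueField h) (by
    show _ = Spec.map (CommRingCat.ofHom (algebraMap k K))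
    rw [← hψ, Spec.map_comp, Spec.map_preimage, Category.assoc]),
    fun x => by
      show (Spec.map ψ ≫ H.left.fromSpecResidueField h) x = h
      rw [Scheme.Hom.comp_apply]
      exact H.left.fromSpecResidueField_apply h _⟩

theorem preconnectedSpace [IsAlgClosed k] [IsLocalRing R] (hH : HilbD.IsUniversal (fR k R) n H Z) :
    PreconnectedSpace H.left := by
  refine preconnectedSpace_iff_connectedComponent.2 fun h₂ => Set.eq_univ_of_forall fun h₁ => ?_
  let φ₁ : CommRingCat.of k ⟶ H.left.residueField h₁ := Spec.preimage (H.left.fromSpecResidueField h₁ ≫ H.hom)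
  let φ₂ : CommRingCat.of k ⟶ H.left.residueField h₂ := Spec.preimage (H.left.fromSpecResidueField h₂ ≫ H.hom)
  letI : Algebra k (H.left.residueField h₁) := φ₁.hom.toAlgebra
  letI : Algebra k (H.left.residueField h₂) := φ₂.hom.toAlgebra
  obtain ⟨K, _, _, ⟨ψ₁⟩, ⟨ψ₂⟩⟩ := exists_common (k := k) (H.left.residueField h₁) (H.left.residueField h₂)
  obtain ⟨π, hπ⟩ := exists_proj k R K
  obtain ⟨g₁, hg₁⟩ := exists_point h₁ (CommRingCat.ofHom ψ₁.toRingHom) (CommRingCat.hom_ext ψ₁.comp_algebraMap)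
  obtain ⟨g₂, hg₂⟩ := exists_point h₂ (CommRingCat.ofHom ψ₂.toRingHom) (CommRingCat.hom_ext ψ₂.comp_algebraMap)
  obtain ⟨I₁, hn₁, hp₁⟩ := exists_classified Z g₁
  obtain ⟨I₂, hn₂, hp₂⟩ := exists_classified Z g₂
  let x : ↥(Spec (CommRingCat.of K)) := ⟨⊥, Ideal.isPrime_bot⟩
  have := mem_component hH hπ x _ I₁ I₂ rfl hn₁ hn₂ hp₁ hp₂
  rw [hg₁ x, hg₂ x] at this
  exact this

end Groth.Agent.H54.Punctual
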