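import Groth.Agent.Lib.HilbD.Basic
import Mathlib.AlgebraicGeometry.Morphisms.FlatRank
import Mathlib.AlgebraicGeometry.Morphisms.ClosedImmersion
import Mathlib.RingTheory.Finiteness.ModuleFinitePresentation

/-!
# Points of the Hilbert functor of a finite algebra as ideals
-/

set_option autoImplicit false
set_option backward.isDefEq.respectTransparency false

universe u

open CategoryTheory CategoryTheory.Limits AlgebraicGeometry TensorProduct
open Groth.Agent.Lib.HilbD.Basic

namespace Groth.Agent.H54.Punctual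

/-- The ideal sheaf of an ideal on a spectrum. -/
noncomputable def shf {C : Type u} [CommRing C] (I : Ideal C) : (Spec (CommRingCat.of C)).IdealSheafData :=
  (Spec.map (CommRingCat.ofHom (Ideal.Quotient.mk I))).ker

theorem exists_shf_eq {C : Type u} [CommRing C] (J : (Spec (CommRingCat.of C)).IdealSheafData) :
    ∃ I : Ideal C, shf I = J := by
  obtain ⟨I, e, he⟩ := (IsClosedImmersion.Spec_iff (f := J.subschemeι)).1 inferInstance
  refine ⟨I, ?_⟩
  rw [← J.ker_subschemeι, he, Scheme.Hom.ker_comp_of_isIso]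
  rfl

theorem comap_shf {C C' : Type u} [CommRing C] [CommRing C'] (θ : C →+* C') (I : Ideal C) :
    (shf I).comap (Spec.map (CommRingCat.ofHom θ)) = shf (I.map θ) := by
  refine le_antisymm ?_ ?_
  · rw [← Scheme.IdealSheafData.le_map_iff_comap_le, shf, shf, Scheme.IdealSheafData.map_ker, ← Spec.map_comp,
      show CommRingCat.ofHom θ ≫ CommRingCat.ofHom (Ideal.Quotient.mk (I.map θ)) =
        CommRingCat.ofHom (Ideal.Quotient.mk I) ≫ CommRingCat.ofHom
          (Ideal.quotientMap (I.map θ) θ Ideal.le_comap_map) by ext; rfl, Spec.map_comp]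
    exact Scheme.Hom.le_ker_comp _ _
  · let t := Spec.map (CommRingCat.ofHom θ)
    let c := Spec.map (CommRingCat.ofHom (Ideal.Quotient.mk I))
    haveI : IsClosedImmersion c := IsClosedImmersion.spec_of_surjective _ Ideal.Quotient.mk_surjective
    show shf (I.map θ) ≤ c.ker.comap t
    rw [← Scheme.IdealSheafData.ker_fst_of_isClosedImmersion]
    obtain ⟨I', e, he⟩ := (IsClosedImmersion.Spec_iff (f := pullback.fst t c)).1 inferInstance
    have hle : I.map θ ≤ I' := by
      rw [Ideal.map_le_iff_le_comap]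
      intro a ha
      have h2 : Spec.map (CommRingCat.ofHom θ ≫ CommRingCat.ofHom (Ideal.Quotient.mk I')) =
          (e.inv ≫ pullback.snd t c) ≫ Spec.map (CommRingCat.ofHom (Ideal.Quotient.mk I)) := by
        show _ = (e.inv ≫ pullback.snd t c) ≫ c
        rw [Category.assoc, ← pullback.condition, ← Category.assoc, he, ← Category.assoc, e.inv_hom_id,
          Category.id_comp, Spec.map_comp]
      rw [← Spec.map_preimage (e.inv ≫ pullback.snd t c), ← Spec.map_comp, Spec.map_inj] at h2
      have h3 := congrArg (fun φ => φ.hom a) h2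
      simp only [CommRingCat.hom_comp, CommRingCat.hom_ofHom, RingHom.comp_apply,
        Ideal.Quotient.eq_zero_iff_mem.2 ha, map_zero] at h3
      exact Ideal.mem_comap.2 (Ideal.Quotient.eq_zero_iff_mem.1 h3)
    rw [he, Scheme.Hom.ker_comp_of_isIso, show CommRingCat.ofHom (Ideal.Quotient.mk I') =
        CommRingCat.ofHom (Ideal.Quotient.mk (I.map θ)) ≫ CommRingCat.ofHom (Ideal.Quotient.factor hle) by
      ext; rfl, Spec.map_comp]
    exact Scheme.Hom.le_ker_comp _ _

variable (k R : Type u) [CommRing k] [CommRing R] [Algebra k R]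

/-- `Spec A` over `Spec k`. -/
noncomputable abbrev pt (A : Type u) [CommRing A] [Algebra k A] : Over (Spec (CommRingCat.of k)) :=
  Over.mk (Spec.map (CommRingCat.ofHom (algebraMap k A)))

/-- The morphism of a homomorphism of algebras. -/
noncomputable abbrev ptMap {A A' : Type u} [CommRing A] [Algebra k A] [CommRing A'] [Algebra k A'] (ψ : A →ₐ[k] A') :
    pt k A' ⟶ pt k A :=
  Over.homMk (Spec.map (CommRingCat.ofHom ψ.toRingHom)) (by
    show _ ≫ Spec.map _ = Spec.map _
    rw [← Spec.map_comp]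
    congr 1
    ext a
    exact ψ.commutes a)

/-- The structure map of `Spec R`. -/
noncomputable abbrev fR : Spec (CommRingCat.of R) ⟶ Spec (CommRingCat.of k) :=
  Spec.map (CommRingCat.ofHom (algebraMap k R))

/-- `Spec R ×_k Spec A ≅ Spec (A ⊗ R)`. -/
noncomputable def eA (A : Type u) [CommRing A] [Algebra k A] :
    PicF.XT (fR k R) (pt k A) ≅ Spec (CommRingCat.of (A ⊗[k] R)) :=
  pullbackSymmetry _ _ ≪≫ pullbackSpecIso k A R

theorem eA_inv_proj (A : Type u) [CommRing A] [Algebra k A] :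
    (eA k R A).inv ≫ PicF.XTproj (fR k R) (pt k A) =
      Spec.map (CommRingCat.ofHom (algebraMap A (A ⊗[k] R))) := by
  show (eA k R A).inv ≫ pullback.snd _ _ = _
  rw [eA, Iso.trans_inv, Category.assoc, pullbackSymmetry_inv_comp_snd]
  exact pullbackSpecIso_inv_fst' k A R

theorem eA_inv_fst (A : Type u) [CommRing A] [Algebra k A] :
    (eA k R A).inv ≫ pullback.fst (fR k R) (pt k A).hom =
      Spec.map (CommRingCat.ofHom (Algebra.TensorProduct.includeRight (R := k) (A := A) (B := R)).toRingHom) := by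
  rw [eA, Iso.trans_inv, Category.assoc, pullbackSymmetry_inv_comp_fst]
  exact pullbackSpecIso_inv_snd k A R

variable {A A' : Type u} [CommRing A] [Algebra k A] [CommRing A'] [Algebra k A']

theorem eA_XTmap (ψ : A →ₐ[k] A') :
    PicF.XTmap (fR k R) (ptMap k ψ) ≫ (eA k R A).hom = (eA k R A').hom ≫
      Spec.map (CommRingCat.ofHom (Algebra.TensorProduct.map ψ (AlgHom.id k R)).toRingHom) := by
  rw [← cancel_epi (eA k R A').inv, Iso.inv_hom_id_assoc, ← Category.assoc, ← Iso.eq_comp_inv]
  apply pullback.hom_ext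
  · rw [Category.assoc, XTmap_fst, eA_inv_fst, Category.assoc, eA_inv_fst, ← Spec.map_comp]
    congr 1
    ext r
    simp
  · show _ ≫ PicF.XTproj (fR k R) (pt k A) = _ ≫ PicF.XTproj (fR k R) (pt k A)
    rw [Category.assoc, XTmap_snd, ← Category.assoc, eA_inv_proj, Category.assoc, eA_inv_proj]
    show _ ≫ Spec.map _ = _
    rw [← Spec.map_comp, ← Spec.map_comp]
    congr 1

/-- The closed subscheme of `Spec R ×_k Spec A` of an ideal of `A ⊗ R`. -/
noncomputable def sh (I : Ideal (A ⊗[k] R)) : (PicF.XT (fR k R) (pt k A)).IdealSheafData :=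
  (shf I).comap (eA k R A).hom

theorem pull_sh (ψ : A →ₐ[k] A') (I : Ideal (A ⊗[k] R)) :
    HilbD.pull (fR k R) (ptMap k ψ) (sh k R I) =
      sh k R (I.map (Algebra.TensorProduct.map ψ (AlgHom.id k R)).toRingHom) := by
  rw [pull_eq_comap, sh, sh, ← Scheme.IdealSheafData.comap_comp, eA_XTmap, Scheme.IdealSheafData.comap_comp,
    comap_shf]

theorem exists_sh_eq (Z : (PicF.XT (fR k R) (pt k A)).IdealSheafData) :
    ∃ I : Ideal (A ⊗[k] R), sh k R I = Z := by
  obtain ⟨I, hI⟩ := exists_shf_eq (Z.comap (eA k R A).inv)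
  exact ⟨I, by rw [sh, hI, ← Scheme.IdealSheafData.comap_comp, Iso.hom_inv_id, Scheme.IdealSheafData.comap_id]⟩

theorem deg_shf_iff {C : Type u} [CommRing C] [Algebra A C] (I : Ideal C) (n : ℕ) :
    Mor2.IsFinLocFreeOfDeg n ((shf I).subschemeι ≫ Spec.map (CommRingCat.ofHom (algebraMap A C))) ↔
      Mor2.IsFinLocFreeOfDeg n (Spec.map (CommRingCat.ofHom (algebraMap A (C ⧸ I)))) := by
  let q := Spec.map (CommRingCat.ofHom (Ideal.Quotient.mk I))
  haveI : IsClosedImmersion q := IsClosedImmersion.spec_of_surjective _ Ideal.Quotient.mk_surjective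
  have e : Spec.map (CommRingCat.ofHom (algebraMap A (C ⧸ I))) =
      q.toImage ≫ ((shf I).subschemeι ≫ Spec.map (CommRingCat.ofHom (algebraMap A C))) := by
    rw [← Category.assoc]
    show _ = (q.toImage ≫ q.imageι) ≫ _
    rw [Scheme.Hom.toImage_imageι, ← Spec.map_comp]
    rfl
  rw [e]
  exact (MorphismProperty.cancel_left_of_respectsIso (AlgSp.finLocFreeOfDeg n) q.toImage _).symm

theorem deg_sh {n : ℕ} {I : Ideal (A ⊗[k] R)}
    (h : Mor2.IsFinLocFreeOfDeg n (Spec.map (CommRingCat.ofHom (algebraMap A ((A ⊗[k] R) ⧸ I))))) :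
    Mor2.IsFinLocFreeOfDeg n ((sh k R I).subschemeι ≫ PicF.XTproj (fR k R) (pt k A)) := by
  refine finLocFreeOfDeg_comap (p := Spec.map (CommRingCat.ofHom (algebraMap A (A ⊗[k] R)))) (g := 𝟙 _)
    (IsPullback.of_horiz_isIso ⟨?_⟩) ((deg_shf_iff I n).2 h)
  rw [← eA_inv_proj, Iso.hom_inv_id_assoc, Category.comp_id]

theorem deg_of_sh {n : ℕ} {I : Ideal (A ⊗[k] R)}
    (h : Mor2.IsFinLocFreeOfDeg n ((sh k R I).subschemeι ≫ PicF.XTproj (fR k R) (pt k A))) :
    Mor2.IsFinLocFreeOfDeg n (Spec.map (CommRingCat.ofHom (algebraMap A ((A ⊗[k] R) ⧸ I)))) := by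
  refine (deg_shf_iff I n).1 ?_
  have e : (shf I) = (sh k R I).comap (eA k R A).inv := by
    rw [sh, ← Scheme.IdealSheafData.comap_comp, Iso.inv_hom_id, Scheme.IdealSheafData.comap_id]
  rw [e]
  refine finLocFreeOfDeg_comap (p := PicF.XTproj (fR k R) (pt k A)) (g := 𝟙 _)
    (IsPullback.of_horiz_isIso ⟨?_⟩) h
  rw [eA_inv_proj, Category.comp_id]

theorem deg_of_free {C : Type u} [CommRing C] [Algebra A C] [Module.Free A C] [Module.Finite A C]
    [Nontrivial A] {n : ℕ} (hn : Module.finrank A C = n) :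
    Mor2.IsFinLocFreeOfDeg n (Spec.map (CommRingCat.ofHom (algebraMap A C))) := by
  refine ⟨⟨(IsFinite.SpecMap_iff _).2 (RingHom.finite_algebraMap.2 inferInstance),
    Flat.SpecMap_iff.2 (RingHom.flat_algebraMap_iff.2 inferInstance),
    (LocallyOfFinitePresentation.SpecMap_iff _).2 (RingHom.finitePresentation_algebraMap.2
      (haveI : Module.FinitePresentation A C := Module.finitePresentation_of_projective A C
       inferInstance))⟩, fun y => ?_⟩
  rw [Scheme.Hom.finrank_SpecMap_algebraMap, Module.rankAtStalk_eq_finrank_of_free, hn]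
  rfl

theorem finrank_of_deg {K C : Type u} [Field K] [CommRing C] [Algebra K C] {n : ℕ}
    (h : Mor2.IsFinLocFreeOfDeg n (Spec.map (CommRingCat.ofHom (algebraMap K C)))) :
    Module.Finite K C ∧ Module.finrank K C = n := by
  haveI : Module.Finite K C := RingHom.finite_algebraMap.1 ((IsFinite.SpecMap_iff _).1 h.1.1)
  refine ⟨inferInstance, ?_⟩
  have := h.2 ⟨⊥, Ideal.isPrime_bot⟩
  rwa [Scheme.Hom.finrank_SpecMap_algebraMap, Module.rankAtStalk_eq_finrank_of_free] at this

end Groth.Agent.H54.Punctual
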